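import Groth.Agent.SectCartier.Algebra
import Groth.Agent.S1676
import Groth.Prelude.Def_BlowUp2
import Mathlib.AlgebraicGeometry.Morphisms.Smooth
import Mathlib.RingTheory.RingHom.StandardSmooth

/-!
A section of a separated morphism, smooth of relative dimension one, is an effective Cartier divisor, flat
over the base.
-/

set_option autoImplicit false
set_option linter.style.haveILetI false
set_option backward.isDefEq.respectTransparency false
set_option backward.isDefEq.respectTransparency.types false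

universe u

open CategoryTheory CategoryTheory.Limits AlgebraicGeometry TopologicalSpace Opposite

noncomputable section

namespace Groth.Agent.SectCartier

theorem mem_basicOpen_iff {X : Scheme.{u}} {V : X.Opens} (hV : IsAffineOpen V) {x : X} (hx : x ∈ V) (b : Γ(X, V)) :
    x ∈ X.basicOpen b ↔ b ∉ (hV.primeIdealOf ⟨x, hx⟩).asIdeal := by
  have h2 : hV.fromSpec (hV.primeIdealOf ⟨x, hx⟩) = x := hV.fromSpec_primeIdealOf ⟨x, hx⟩
  conv_lhs => rw [← h2]
  exact SetLike.ext_iff.mp (hV.fromSpec_preimage_basicOpen b) (hV.primeIdealOf ⟨x, hx⟩)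

theorem isUnit_one_of_notMem {X Y : Scheme.{u}} (σ : Y ⟶ X) [IsClosedImmersion σ] {x : X}
    (hx : x ∉ Set.range σ) : ∃ U : X.affineOpens, x ∈ U.1 ∧ σ.ker.ideal U = Ideal.span {1} := by
  obtain ⟨U, hU, hxU, hle⟩ := exists_isAffineOpen_mem_and_subset
    (U := (⟨(Set.range σ)ᶜ, σ.isClosedEmbedding.isClosed_range.isOpen_compl⟩ : X.Opens)) hx
  refine ⟨⟨U, hU⟩, hxU, ?_⟩
  have he : σ ⁻¹ᵁ U = ⊥ := le_bot_iff.mp fun z hz => (hle hz ⟨z, rfl⟩).elim
  haveI : Subsingleton Γ(Y, σ ⁻¹ᵁ U) := by rw [he]; infer_instance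
  rw [Ideal.span_singleton_one, σ.ker_apply, eq_top_iff]
  intro b _
  exact RingHom.mem_ker.mpr (Subsingleton.elim _ _)

theorem isEffCartierIdeal_ker {X Y : Scheme.{u}} (f : X ⟶ Y) [IsSeparated f] [SmoothOfRelativeDimension 1 f]
    (σ : Y ⟶ X) (hσ : σ ≫ f = 𝟙 Y) [IsClosedImmersion σ] : BlowUp.IsEffCartierIdeal σ.ker := by
  haveI : Smooth f := SmoothOfRelativeDimension.smooth 1 f
  have hreg : Mor2.IsRegularClosedImmersion σ := Groth.Agent.S1676.result f σ hσ
  intro x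
  by_cases hxr : x ∈ Set.range σ
  swap
  · obtain ⟨U, hxU, hU⟩ := isUnit_one_of_notMem σ hxr
    exact ⟨U, hxU, 1, one_mem _, hU⟩
  obtain ⟨y, rfl⟩ := hxr
  have hfx : f (σ y) = y := by rw [← Scheme.Hom.comp_apply, hσ]; rfl
  obtain ⟨U0, hU0, V0, hV0, hxV0, e0, hstd⟩ :=
    SmoothOfRelativeDimension.exists_isStandardSmoothOfRelativeDimension (n := 1) (f := f) (σ y)
  have hyU0 : y ∈ U0 := by have h : f (σ y) ∈ U0 := e0 hxV0; rwa [hfx] at h
  obtain ⟨a, hale, hya⟩ := hU0.exists_basicOpen_le (⟨y, show y ∈ σ ⁻¹ᵁ V0 from hxV0⟩ : σ ⁻¹ᵁ V0) hyU0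
  let U : Y.Opens := Y.basicOpen a
  let a' : Γ(X, V0) := (f.appLE U0 V0 e0).hom a
  let V : X.Opens := X.basicOpen a'
  have hV : IsAffineOpen V := hV0.basicOpen a'
  have hU : IsAffineOpen U := hU0.basicOpen a
  have hVeq : V = V0 ⊓ f ⁻¹ᵁ U := by
    show X.basicOpen ((X.presheaf.map (homOfLE e0).op).hom ((f.app U0).hom a)) = _
    rw [Scheme.basicOpen_res, ← Scheme.preimage_basicOpen]
  have hfσ : ∀ z, f (σ z) = z := fun z => by rw [← Scheme.Hom.comp_apply, hσ]; rfl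
  have hσV : σ ⁻¹ᵁ V = U := by
    ext z
    show σ z ∈ V ↔ z ∈ U
    rw [hVeq]
    show σ z ∈ V0 ∧ f (σ z) ∈ U ↔ z ∈ U
    rw [hfσ]
    exact ⟨fun h => h.2, fun h => ⟨hale h, h⟩⟩
  have hVU : V ≤ f ⁻¹ᵁ U := hVeq.le.trans inf_le_right
  have hyV : σ y ∈ V := by rw [hVeq]; exact ⟨hxV0, by show f (σ y) ∈ U; rw [hfx]; exact hya⟩
  let φ : Γ(Y, U0) →+* Γ(Y, U) := (Y.presheaf.map (homOfLE (Y.basicOpen_le a)).op).hom
  let g : Γ(Y, U) →+* Γ(X, V) := (f.appLE U V hVU).hom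
  let π : Γ(X, V) →+* Γ(Y, U) := (σ.appLE V U hσV.ge).hom
  have hπg : ∀ b, π (g b) = b := fun b => by
    have key : ∀ (h : Y ⟶ Y) (e : U ≤ h ⁻¹ᵁ U), h = 𝟙 Y → (h.appLE U U e).hom b = b := by
      rintro h e rfl
      rw [Scheme.Hom.appLE, Scheme.Hom.id_app, Category.id_comp]
      show (Y.presheaf.map (homOfLE _).op).hom b = b
      rw [show (homOfLE _ : U ⟶ U) = 𝟙 _ from Subsingleton.elim _ _, op_id, Y.presheaf.map_id]
      rfl
    show ((f.appLE U V hVU) ≫ (σ.appLE V U hσV.ge)).hom b = b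
    rw [Scheme.Hom.appLE_comp_appLE]
    exact key _ _ hσ
  letI : Algebra Γ(Y, U0) Γ(X, V) := (f.appLE U0 V ((X.basicOpen_le a').trans e0)).hom.toAlgebra
  have hg : ∀ α, g (φ α) = algebraMap Γ(Y, U0) Γ(X, V) α := fun α => by
    show (Y.presheaf.map (homOfLE (Y.basicOpen_le a)).op ≫ f.appLE U V hVU).hom α = _
    rw [Scheme.Hom.map_appLE]
    rfl
  have hstdV : (f.appLE U0 V ((X.basicOpen_le a').trans e0)).hom.IsStandardSmoothOfRelativeDimension 1 := by
    letI : Algebra Γ(X, V0) Γ(X, V) := (X.presheaf.map (homOfLE (X.basicOpen_le a')).op).hom.toAlgebra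
    haveI : IsLocalization.Away a' Γ(X, V) := hV0.isLocalization_basicOpen a'
    have h := (RingHom.isStandardSmoothOfRelativeDimension_stableUnderCompositionWithLocalizationAway 1).right
      Γ(X, V) a' (f.appLE U0 V0 e0).hom hstd
    rw [← Scheme.Hom.appLE_map f e0 (homOfLE (X.basicOpen_le a')).op, CommRingCat.hom_comp]
    exact h
  haveI : Algebra.IsStandardSmoothOfRelativeDimension 1 Γ(Y, U0) Γ(X, V) := hstdV
  haveI : Algebra.IsStandardSmooth Γ(Y, U0) Γ(X, V) := Algebra.IsStandardSmoothOfRelativeDimension.isStandardSmooth 1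
  haveI : Nonempty V := ⟨⟨σ y, hyV⟩⟩
  haveI : Nontrivial Γ(X, V) := (X.presheaf.germ V (σ y) hyV).hom.domain_nontrivial
  have hker : σ.ker.ideal ⟨V, hV⟩ = RingHom.ker π := by
    rw [σ.ker_apply]
    ext b
    rw [RingHom.mem_ker, RingHom.mem_ker]
    have key : ∀ (W : Y.Opens) (hW : W ≤ σ ⁻¹ᵁ V), W = σ ⁻¹ᵁ V →
        ((σ.appLE V W hW).hom b = 0 ↔ (σ.app V).hom b = 0) := by
      rintro W hW rfl
      rw [Scheme.Hom.appLE_eq_app]
    exact (key U hσV.ge hσV.symm).symm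
  let p := (hV.primeIdealOf ⟨σ y, hyV⟩).asIdeal
  have hkp : RingHom.ker π ≤ p := fun z hz => by
    by_contra hzp
    have h1 := (mem_basicOpen_iff hV hyV z).mpr hzp
    have h2 : y ∈ σ ⁻¹ᵁ X.basicOpen z := h1
    rw [Scheme.preimage_basicOpen] at h2
    rw [← hker, σ.ker_apply] at hz
    rw [RingHom.mem_ker.mp hz, Scheme.basicOpen_zero] at h2
    exact h2
  obtain ⟨r, hr, c, hc, hcI⟩ := exists_principal φ g π hπg hg
  have hyc : σ y ∈ X.basicOpen c := (mem_basicOpen_iff hV hyV c).mpr fun h =>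
    (hV.primeIdealOf ⟨σ y, hyV⟩).isPrime.ne_top
      ((Ideal.eq_top_iff_one _).mpr (by simpa using sub_mem h (hkp hc)))
  obtain ⟨-, hloc⟩ := hreg
  obtain ⟨U2, hU2, hyU2, rs, hrs, hideal⟩ := hloc y
  obtain ⟨u, v, huv, hyu⟩ := exists_basicOpen_le_affine_inter (hV.basicOpen c) hU2 (σ y) ⟨hyc, hyU2⟩
  obtain ⟨u', hu'⟩ := IsAffineOpen.basicOpen_basicOpen_is_basicOpen hV c u
  let W : X.affineOpens := ⟨X.basicOpen v, hU2.basicOpen v⟩
  have hyW : σ y ∈ W.1 := by show σ y ∈ X.basicOpen v; rw [← huv]; exact hyu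
  have hWc : W.1 ≤ X.basicOpen c := huv.ge.trans (X.basicOpen_le u)
  have hWV : W.1 ≤ V := hWc.trans (X.basicOpen_le c)
  let ρ : Γ(X, V) →+* Γ(X, W.1) := (X.presheaf.map (homOfLE hWV).op).hom
  have hWI : σ.ker.ideal W = Ideal.map ρ (RingHom.ker π) := by
    rw [← hker]
    exact (σ.ker.map_ideal (U := W) (V := ⟨V, hV⟩) hWV).symm
  have hcu : IsUnit (ρ c) := by
    have h1 : IsUnit ((X.presheaf.map (homOfLE (X.basicOpen_le c)).op).hom c) :=
      RingedSpace.isUnit_res_basicOpen X.toRingedSpace c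
    have h2 : ρ c = (X.presheaf.map (homOfLE hWc).op).hom ((X.presheaf.map (homOfLE (X.basicOpen_le c)).op).hom c) := by
      show _ = (X.presheaf.map _ ≫ X.presheaf.map _).hom c
      rw [← X.presheaf.map_comp, ← op_comp]
      rfl
    rw [h2]
    exact h1.map _
  have hspan : σ.ker.ideal W = Ideal.span {ρ r} := by
    rw [hWI]
    refine le_antisymm (Ideal.map_le_iff_le_comap.mpr fun z hz => ?_)
      ((Ideal.span_singleton_le_iff_mem _).mpr (Ideal.mem_map_of_mem _ hr))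
    have h1 := Ideal.mem_map_of_mem ρ (hcI z hz)
    rw [Ideal.map_span, Set.image_singleton, map_mul] at h1
    exact (Ideal.unit_mul_mem_iff_mem _ hcu).mp h1
  refine ⟨W, hyW, ρ r, ?_, hspan⟩
  let ρ2 : Γ(X, U2) →+* Γ(X, W.1) := (X.presheaf.map (homOfLE (X.basicOpen_le v)).op).hom
  have hW2 : σ.ker.ideal W = Ideal.map ρ2 (Ideal.ofList rs) := by
    rw [← hideal]
    exact (σ.ker.map_ideal (U := W) (V := ⟨U2, hU2⟩) (X.basicOpen_le v)).symm
  rcases rs with _ | ⟨r1, rs'⟩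
  · exfalso
    rw [Ideal.ofList_nil, Ideal.map_bot] at hW2
    have hu_u' : X.basicOpen u' = W.1 := hu'.trans huv
    refine ker_ne_zero φ g π hπg hg a ?_ (fun x => ?_) p fun z hz => ?_
    · rw [← hg]
      exact (RingedSpace.isUnit_res_basicOpen Y.toRingedSpace a).map g
    · letI : Algebra Γ(Y, U0) Γ(Y, U) := φ.toAlgebra
      haveI : IsLocalization.Away a Γ(Y, U) := hU0.isLocalization_basicOpen a
      obtain ⟨n, α, hα⟩ := IsLocalization.Away.surj a x
      exact ⟨n, α, by rw [mul_comm]; exact hα⟩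
    · have h0 : ρ z = 0 := by
        have h1 := Ideal.mem_map_of_mem ρ hz
        rw [← hWI, hW2] at h1
        exact h1
      letI : Algebra Γ(X, V) Γ(X, W.1) := ρ.toAlgebra
      haveI : IsLocalization.Away u' Γ(X, W.1) :=
        hV.isLocalization_of_eq_basicOpen u' (homOfLE hWV) hu_u'.symm
      obtain ⟨m, hm⟩ := (IsLocalization.map_eq_zero_iff (Submonoid.powers u') Γ(X, W.1) z).mp h0
      refine ⟨m, fun hmp => ?_, hm⟩
      obtain ⟨n, hn⟩ := m.2
      have hu'p : u' ∈ p := (hV.primeIdealOf ⟨σ y, hyV⟩).isPrime.mem_of_pow_mem n (by rw [show u' ^ n = (m : Γ(X, V)) from hn]; exact hmp)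
      exact ((mem_basicOpen_iff hV hyV u').mp (hu_u'.ge hyW)) hu'p
  · have hnzd : ρ2 r1 ∈ nonZeroDivisors Γ(X, W.1) := by
      letI : Algebra Γ(X, U2) Γ(X, W.1) := ρ2.toAlgebra
      haveI : IsLocalization.Away v Γ(X, W.1) := hU2.isLocalization_basicOpen v
      refine IsLocalization.map_nonZeroDivisors_le (Submonoid.powers v) Γ(X, W.1)
        ⟨r1, mem_nonZeroDivisors_iff_right.mpr fun z hz => ?_, rfl⟩
      refine ((RingTheory.Sequence.isWeaklyRegular_cons_iff _ r1 rs').mp hrs.toIsWeaklyRegular).1 ?_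
      simp only [smul_eq_mul, mul_zero]
      rw [mul_comm]; exact hz
    have h1 : ρ2 r1 ∈ Ideal.span {ρ r} := by
      rw [← hspan, hW2]
      exact Ideal.mem_map_of_mem _ (Ideal.subset_span (List.mem_cons_self ..))
    obtain ⟨w, hw⟩ := Ideal.mem_span_singleton'.mp h1
    rw [← hw] at hnzd
    exact (mul_mem_nonZeroDivisors.mp hnzd).2

theorem flat_subscheme {X Y : Scheme.{u}} (f : X ⟶ Y) (σ : Y ⟶ X) (hσ : σ ≫ f = 𝟙 Y) [IsClosedImmersion σ] :
    Flat (σ.ker.subschemeι ≫ f) := by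
  haveI : IsIso σ.toImage := inferInstance
  rw [← MorphismProperty.cancel_left_of_respectsIso @Flat σ.toImage, ← Category.assoc, Scheme.Hom.toImage_imageι, hσ]
  infer_instance

end Groth.Agent.SectCartier
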