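import Mathlib.RingTheory.Smooth.StandardSmoothCotangent
import Mathlib.RingTheory.Ideal.Cotangent
import Mathlib.RingTheory.Finiteness.Nakayama
import Mathlib.RingTheory.Ideal.Quotient.Operations
import Mathlib.LinearAlgebra.Dimension.Free
import Mathlib.LinearAlgebra.FreeModule.StrongRankCondition

/-!
The kernel of a retraction of a smooth algebra of relative dimension one is locally principal and nonzero.
-/

set_option autoImplicit false
set_option linter.style.haveILetI false

universe u

open scoped Pointwise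

namespace Groth.Agent.SectCartier

variable {A₀ A B : Type u} [CommRing A₀] [CommRing A] [CommRing B] [Algebra A₀ B]
  (φ : A₀ →+* A) (g : A →+* B) (π : B →+* A)

theorem fg_ker [Algebra.FiniteType A₀ B] (hπg : ∀ a, π (g a) = a) (hg : ∀ α, g (φ α) = algebraMap A₀ B α) :
    (RingHom.ker π).FG := by
  classical
  obtain ⟨t, ht⟩ := (inferInstance : Algebra.FiniteType A₀ B).1
  refine ⟨t.image fun b => b - g (π b), le_antisymm (Ideal.span_le.mpr fun z hz => ?_) fun z hz => ?_⟩
  · obtain ⟨b, -, rfl⟩ := Finset.mem_image.mp hz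
    rw [SetLike.mem_coe, RingHom.mem_ker, map_sub, hπg, sub_self]
  · suffices ∀ b : B, b - g (π b) ∈ Ideal.span ((t.image fun b => b - g (π b) : Finset B) : Set B) by
      have h := this z
      rwa [RingHom.mem_ker.mp hz, map_zero, sub_zero] at h
    intro b
    have hb : b ∈ Algebra.adjoin A₀ (t : Set B) := by rw [ht]; trivial
    induction hb using Algebra.adjoin_induction with
    | mem x hx => exact Ideal.subset_span (Finset.mem_image.mpr ⟨x, hx, rfl⟩)
    | algebraMap α => rw [← hg, hπg, sub_self]; exact zero_mem _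
    | add x y _ _ hx hy =>
      have e : x + y - g (π (x + y)) = (x - g (π x)) + (y - g (π y)) := by rw [map_add, map_add]; ring
      rw [e]; exact add_mem hx hy
    | mul x y _ _ hx hy =>
      have e : x * y - g (π (x * y)) = x * (y - g (π y)) + g (π y) * (x - g (π x)) := by
        rw [map_mul, map_mul]; ring
      rw [e]; exact add_mem (Ideal.mul_mem_left _ _ hy) (Ideal.mul_mem_left _ _ hx)

theorem exists_principal [Algebra.IsStandardSmoothOfRelativeDimension 1 A₀ B] [Algebra.FiniteType A₀ B]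
    [Nontrivial B] (hπg : ∀ a, π (g a) = a) (hg : ∀ α, g (φ α) = algebraMap A₀ B α) :
    ∃ r ∈ RingHom.ker π, ∃ c : B, c - 1 ∈ RingHom.ker π ∧ ∀ z ∈ RingHom.ker π, c * z ∈ Ideal.span {r} := by
  haveI : Algebra.IsStandardSmooth A₀ B := Algebra.IsStandardSmoothOfRelativeDimension.isStandardSmooth 1
  have hr1 : Module.finrank B Ω[B⁄A₀] = 1 := Module.finrank_eq_of_rank_eq
    (by rw [Algebra.IsStandardSmoothOfRelativeDimension.rank_kaehlerDifferential 1])
  haveI : Module.Finite B Ω[B⁄A₀] := inferInstance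
  let bΩ := Module.finBasisOfFinrankEq B Ω[B⁄A₀] hr1
  let I := RingHom.ker π
  have hI : ∀ b, b - g (π b) ∈ I := fun b => by rw [RingHom.mem_ker, map_sub, hπg, sub_self]
  let D₀ : B →ₗ[A₀] I.Cotangent :=
    { toFun := fun b => I.toCotangent ⟨b - g (π b), hI b⟩
      map_add' := fun x y => by
        rw [← map_add]
        exact congrArg I.toCotangent (Subtype.ext (by simp only [map_add, Submodule.coe_add]; ring))
      map_smul' := fun α b => by
        rw [RingHom.id_apply, ← algebraMap_smul B α (I.toCotangent _), ← map_smul]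
        refine congrArg I.toCotangent (Subtype.ext ?_)
        simp only [SetLike.val_smul, smul_eq_mul, Algebra.smul_def, map_mul]
        rw [← hg, hπg]; ring }
  let D : Derivation A₀ B I.Cotangent := Derivation.mk' D₀ fun x y => by
    show I.toCotangent _ = x • I.toCotangent _ + y • I.toCotangent _
    rw [← map_smul, ← map_smul, ← map_add, Ideal.toCotangent_eq]
    simp only [Submodule.coe_add, SetLike.val_smul, smul_eq_mul]
    have e : x * y - g (π (x * y)) - (x * (y - g (π y)) + y * (x - g (π x))) =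
        -((x - g (π x)) * (y - g (π y))) := by rw [map_mul, map_mul]; ring
    rw [e, pow_two]
    exact neg_mem (Ideal.mul_mem_mul (hI x) (hI y))
  obtain ⟨⟨r, hrI⟩, hr⟩ := I.toCotangent_surjective (D.liftKaehlerDifferential (bΩ 0))
  refine ⟨r, hrI, ?_⟩
  let J : Ideal B := Ideal.span {r}
  have hsup : ∀ z ∈ I, ∃ w ∈ I * I, z - w ∈ J := fun z hz => by
    have h1 : D z = I.toCotangent ⟨z, hz⟩ := congrArg I.toCotangent (Subtype.ext (by
      show z - g (π z) = z
      rw [RingHom.mem_ker.mp hz, map_zero, sub_zero]))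
    have h2 : KaehlerDifferential.D A₀ B z = bΩ.repr (KaehlerDifferential.D A₀ B z) 0 • bΩ 0 := by
      conv_lhs => rw [← bΩ.sum_repr (KaehlerDifferential.D A₀ B z)]
      rw [Fin.sum_univ_one]
    set β := bΩ.repr (KaehlerDifferential.D A₀ B z) 0
    have h3 : D z = β • I.toCotangent ⟨r, hrI⟩ := by
      rw [← D.liftKaehlerDifferential_comp_D z, h2, map_smul, hr]
    rw [h1, ← map_smul, Ideal.toCotangent_eq] at h3
    refine ⟨z - β * r, by rw [← pow_two]; exact h3, ?_⟩
    rw [sub_sub_cancel]
    exact Ideal.mul_mem_left _ _ (Ideal.mem_span_singleton_self r)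
  let q : B →ₗ[B] B ⧸ J := J.mkQ
  have hfg : (Submodule.map q I).FG := Submodule.FG.map q (fg_ker φ g π hπg hg)
  obtain ⟨c, hc, hc'⟩ := Submodule.exists_sub_one_mem_and_smul_eq_zero_of_fg_of_le_smul I (Submodule.map q I) hfg (by
    rintro _ ⟨z, hz, rfl⟩
    obtain ⟨w, hw, hzw⟩ := hsup z hz
    rw [show q z = q w from (Submodule.Quotient.eq J).mpr hzw, ← Submodule.map_smul'']
    exact Submodule.mem_map_of_mem hw)
  refine ⟨c, hc, fun z hz => ?_⟩
  have h := hc' (q z) (Submodule.mem_map_of_mem hz)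
  rwa [← map_smul, smul_eq_mul, Submodule.mkQ_apply, Submodule.Quotient.mk_eq_zero] at h

/-- The kernel is not zero near any of its zeros. -/
theorem ker_ne_zero [Algebra.IsStandardSmoothOfRelativeDimension 1 A₀ B] [Nontrivial B]
    (hπg : ∀ a, π (g a) = a) (hg : ∀ α, g (φ α) = algebraMap A₀ B α)
    (a : A₀) (ha : IsUnit (algebraMap A₀ B a)) (hden : ∀ x : A, ∃ (n : ℕ) (α : A₀), φ a ^ n * x = φ α)
    (p : Ideal B) [p.IsPrime] :
    ¬ ∀ z ∈ RingHom.ker π, ∃ s ∉ p, s * z = 0 := by
  intro hloc
  haveI : Algebra.IsStandardSmooth A₀ B := Algebra.IsStandardSmoothOfRelativeDimension.isStandardSmooth 1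
  have hr1 : Module.finrank B Ω[B⁄A₀] = 1 := Module.finrank_eq_of_rank_eq
    (by rw [Algebra.IsStandardSmoothOfRelativeDimension.rank_kaehlerDifferential 1])
  haveI : Module.Finite B Ω[B⁄A₀] := inferInstance
  let bΩ := Module.finBasisOfFinrankEq B Ω[B⁄A₀] hr1
  let χ : Ω[B⁄A₀] →ₗ[B] B ⧸ p := (Ideal.Quotient.mkₐ B p).toLinearMap ∘ₗ bΩ.coord 0
  let δ : B → B ⧸ p := fun b => χ (KaehlerDifferential.D A₀ B b)
  have hmul : ∀ x y, δ (x * y) = Ideal.Quotient.mk p x * δ y + Ideal.Quotient.mk p y * δ x := fun x y => by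
    simp only [δ, Derivation.leibniz, map_add, map_smul]
    rfl
  have hα : ∀ α, δ (algebraMap A₀ B α) = 0 := fun α => by simp [δ]
  have hδz : ∀ z ∈ RingHom.ker π, (Ideal.Quotient.mk p z = 0) ∧ δ z = 0 := fun z hz => by
    obtain ⟨s, hs, hsz⟩ := hloc z hz
    have hs' : Ideal.Quotient.mk p s ≠ 0 := fun h => hs (Ideal.Quotient.eq_zero_iff_mem.mp h)
    have hzp : Ideal.Quotient.mk p z = 0 := by
      have := congrArg (Ideal.Quotient.mk p) hsz
      rw [map_mul, map_zero] at this
      exact (mul_eq_zero.mp this).resolve_left hs'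
    refine ⟨hzp, ?_⟩
    have h := congrArg δ hsz
    rw [hmul, hzp, zero_mul, add_zero, show δ (0 : B) = 0 by simp [δ], mul_eq_zero] at h
    exact h.resolve_left hs'
  have hau : Ideal.Quotient.mk p (algebraMap A₀ B a) ≠ 0 := (ha.map (Ideal.Quotient.mk p)).ne_zero
  have hgδ : ∀ x : A, δ (g x) = 0 := fun x => by
    obtain ⟨n, α, hα'⟩ := hden x
    have h := congrArg (fun y => δ (g y)) hα'
    simp only [map_mul, ← map_pow, hg] at h
    rw [hmul, hα, hα, mul_zero, add_zero, mul_eq_zero, map_pow, map_pow] at h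
    exact h.resolve_left (pow_ne_zero n hau)
  have hall : ∀ b, δ b = 0 := fun b => by
    have h := (hδz (b - g (π b)) (by rw [RingHom.mem_ker, map_sub, hπg, sub_self])).2
    simp only [δ, map_sub] at h hgδ ⊢
    rw [hgδ, sub_zero] at h
    exact h
  have hχ : χ = 0 := LinearMap.ext_on_range (KaehlerDifferential.span_range_derivation A₀ B) fun b => hall b
  have h1 : χ (bΩ 0) = 1 := by simp [χ]
  rw [hχ, LinearMap.zero_apply] at h1
  exact zero_ne_one h1

end Groth.Agent.SectCartier
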